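import Mathlib.RingTheory.Flat.FaithfullyFlat.Basic
import Mathlib.RingTheory.Flat.FaithfullyFlat.Algebra
import Mathlib.RingTheory.Flat.Stability
import Mathlib.RingTheory.RingHom.FaithfullyFlat
import Mathlib.RingTheory.RingHom.Flat

/-!
# Elementary faithfully flat descent
-/

universe u v w

open TensorProduct

namespace GrothLib.DescElem

/-- Membership in the image of a linear map can be checked after a faithfully flat base change. -/
theorem mem_range_of_one_tmul {R : Type u} [CommRing R] (A : Type u) [CommRing A] [Algebra R A]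
    [Module.FaithfullyFlat R A] {X Y : Type u} [AddCommGroup X] [Module R X] [AddCommGroup Y] [Module R Y]
    (g : X →ₗ[R] Y) (y : Y) (h : (1 : A) ⊗ₜ[R] y ∈ LinearMap.range (g.lTensor A)) :
    y ∈ LinearMap.range g := by
  obtain ⟨z, hz⟩ := h
  rw [← Submodule.Quotient.mk_eq_zero]
  refine Module.FaithfullyFlat.tensorProduct_mk_injective (A := R) (B := A) _ ?_
  simp only [TensorProduct.mk_apply, tmul_zero]
  rw [show (1 : A) ⊗ₜ[R] (Submodule.Quotient.mk y : Y ⧸ LinearMap.range g)
    = (LinearMap.range g).mkQ.lTensor A ((1 : A) ⊗ₜ[R] y) from rfl, ← hz, ← LinearMap.comp_apply,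
    ← LinearMap.lTensor_comp, LinearMap.range_mkQ_comp, LinearMap.lTensor_zero, LinearMap.zero_apply]

/-- If `R → S → U → T` with `S → T` faithfully flat and `R → U` flat, then `R → S` is flat. -/
theorem flat_of_pure {R S U T : Type u} [CommRing R] [CommRing S] [CommRing U] [CommRing T]
    [Algebra R S] [Algebra R U] [Algebra R T] [Algebra S T] [IsScalarTower R S T]
    [Module.FaithfullyFlat S T] [Module.Flat R U] (h : S →ₐ[R] U) (g : U →ₐ[R] T)
    (hgh : ∀ s, g (h s) = algebraMap S T s) : Module.Flat R S := by
  have hinj : ∀ (M : Type u) [AddCommGroup M] [Module R M],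
      Function.Injective (h.toLinearMap.rTensor M) := by
    intro M _ _
    have key : ∀ z, g.toLinearMap.rTensor M (h.toLinearMap.rTensor M z)
        = AlgebraTensorModule.cancelBaseChange R S T T M ((1 : T) ⊗ₜ[S] z) := by
      intro z
      induction z using TensorProduct.induction_on with
      | zero => simp
      | tmul s m =>
        simp [AlgebraTensorModule.cancelBaseChange_tmul, hgh, Algebra.algebraMap_eq_smul_one]
      | add x y hx hy => simp only [map_add, hx, hy, tmul_add]
    intro x y hxy
    apply Module.FaithfullyFlat.tensorProduct_mk_injective (A := S) (B := T)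
    apply (AlgebraTensorModule.cancelBaseChange R S T T M).injective
    simp only [TensorProduct.mk_apply]
    rw [← key, ← key, hxy]
  rw [Module.Flat.iff_lTensor_preserves_injective_linearMap]
  intro M M' _ _ _ _ f hf x y hxy
  apply hinj M
  apply Module.Flat.lTensor_preserves_injective_linearMap (M := U) f hf
  have comm : ∀ z, f.lTensor U (h.toLinearMap.rTensor M z) = h.toLinearMap.rTensor M' (f.lTensor S z) := by
    intro z
    rw [← LinearMap.comp_apply, ← LinearMap.comp_apply, LinearMap.lTensor_comp_rTensor,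
      LinearMap.rTensor_comp_lTensor]
  rw [comm, comm, hxy]

theorem ringHom_flat_of_pure {R S U T : Type u} [CommRing R] [CommRing S] [CommRing U] [CommRing T]
    (φ : R →+* S) (ψ : S →+* U) (χ : U →+* T) (hff : (χ.comp ψ).FaithfullyFlat)
    (hflat : (ψ.comp φ).Flat) : φ.Flat := by
  algebraize [φ, χ.comp ψ, ψ.comp φ, (χ.comp ψ).comp φ]
  exact flat_of_pure (T := T) (AlgHom.mk ψ fun _ => rfl) (AlgHom.mk χ fun _ => rfl) fun _ => rfl

theorem ringHom_faithfullyFlat_of_flat {A B : Type u} [CommRing A] [CommRing B] [IsLocalRing A]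
    [IsLocalRing B] (φ : A →+* B) [IsLocalHom φ] (h : φ.Flat) : φ.FaithfullyFlat := by
  algebraize [φ]
  have : IsLocalHom (algebraMap A B) := ‹_›
  exact Module.FaithfullyFlat.of_flat_of_isLocalHom

theorem ringHom_flat_of_comp {R S T : Type u} [CommRing R] [CommRing S] [CommRing T]
    (φ : R →+* S) (ψ : S →+* T) (hff : ψ.FaithfullyFlat) (hflat : (ψ.comp φ).Flat) : φ.Flat :=
  ringHom_flat_of_pure φ ψ (RingHom.id T) (by rwa [RingHom.id_comp]) hflat

end GrothLib.DescElem
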